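import Cfsg.Agent.Lib.J1S.A

/-!
# The case `W ≅ ℤ₄³`: the Sylow `2`-subgroup of the centralizer of an element `u` of order `4`

The proofs are those of `Lib.SL2s.YC` and `Lib.SL2s.YE`.
-/

set_option autoImplicit false
set_option linter.unusedSectionVars false

namespace Cfsg.Lib.J1S

open Subgroup Cfsg.Lib.BG Cfsg.Lib.RI Cfsg.Lib.UE Cfsg.Lib.FGS Cfsg.Lib.SL2s
open scoped Cfsg.Lib.Transfer

variable {G : Type*} [Group G] [Finite G] {A B D E H I J K M N P Q R S T U W X Y Z : Subgroup G} {b d e f g h i j k r s t u v w x y z : G} {m : ℕ}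

theorem Y2.pw (c : Y2 t h Z W) (n : W ≠ Z) : ∃ m, Pw W Z m := by
  obtain ⟨k, p1, p2, p3⟩ := c.pi
  rcases k with _ | k
  · exact absurd (le_antisymm (fun w m => by simpa using p1 w m) c.ZW) n
  simp only [show ∀ w : G, w ^ 2 ^ (k + 1) = (w * w) ^ 2 ^ k from fun w => by rw [pow_succ' 2, pow_mul, sq]] at p1 p2 p3
  exact ⟨2 ^ k, p1, p2, p3, by cases k; exacts [.inl rfl, .inr ⟨_, pow_succ' ..⟩]⟩

namespace Y3
variable (c : Y3 t h Z W R) (a : Am t h X) (p : Pw W Z m)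
include c

theorem cm (m1 : u ∈ W) (m2 : w ∈ W) : Commute u w := mc.1 (c.ab m1) w m2
theorem pmul (m1 : u ∈ W) (m2 : w ∈ W) : (u * w * (u * w)) ^ m = (u * u) ^ m * (w * w) ^ m := by
  rw [(c.cm m1 m2).symm.mul_mul_mul_comm, (c.cm (mul_mem m1 m1) (mul_mem m2 m2)).mul_pow]

include a
theorem tv (mx : x ∈ R ⊓ X) (x1 : x ∉ W) (x2 : x * x ∈ W) : ∃ e, Tv Z x e := ex_tv c.Z2 c.c8 (c.RZ mx.1) (c.WC x2) (c.nC a mx x1)

include p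
theorem fp (mx : x ∈ R ⊓ X) (x1 : x ∉ W) (x2 : x * x = 1) (T : Tv Z x e) : ∃ y ∈ W, ∃ y' ∈ W, ∃ n ∈ W, cj x y = y⁻¹ ∧ cj x y' = y'⁻¹ ∧
    y * y ∈ Z ⊓ 𝐂[x] ∧ y * y ∉ zpowers e ∧ y' * y' = y * y * e ∧ n ∈ 𝐂[x] ∧ (n * n) ^ m = e ∧ y = (cj x t * t) ^ m := by
  obtain ⟨v, v1, v2⟩ := T.ex
  obtain ⟨b, b1, rfl⟩ := p.p2 v v1
  have d := c.dl (c.RN mx.1)
  have b2 := cjm (c.RW mx.1) b1
  have b3 : (cj x b * cj x b) ^ m = (b * b) ^ m * e := by rw [← cj_mul, ← cj_pow, T.mv v1 v2]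
  have i1 : cj x (cj x t * t) = (cj x t * t)⁻¹ := by rw [cj_mul, cj_sq x2, mul_inv_rev, inv_of_sq c.t2, ← cj_inv, inv_of_sq c.t2]
  have m0 := mul_mem (inv_mem b2) b1
  have i2 : cj x ((cj x b)⁻¹ * b) = ((cj x b)⁻¹ * b)⁻¹ := by rw [cj_mul, cj_inv, cj_sq x2, mul_inv_rev, inv_inv]
  have e0 : ((cj x b)⁻¹ * b * ((cj x b)⁻¹ * b)) ^ m = e := by
    rw [c.pmul (inv_mem b2) b1, ← mul_inv_rev, inv_pow, b3, mul_inv_rev, inv_mul_cancel_right, inv_of_sq T.e2]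
  have i3 : cj x ((cj x t * t) ^ m) = ((cj x t * t) ^ m)⁻¹ := by rw [cj_pow, i1, inv_pow]
  have z := p.p1 _ d
  refine ⟨_, pow_mem d m, _, pow_mem (mul_mem d m0) m, _, mul_mem b1 b2, i3, by
    rw [cj_pow, cj_mul, i1, i2, ← mul_inv_rev, (c.cm m0 d).eq, inv_pow], ⟨by rwa [sqpow], mc1.2 (cj_eq_iff.1 (by
      rw [cj_mul, i3, ← mul_inv_rev, sqpow, c.Z2.inv z])).symm⟩, fun k => x1 (c.PX a ?_ mx.2), by rw [sqpow, sqpow, c.pmul d m0, e0],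
    mc1.2 (cj_eq_iff.1 (by rw [cj_mul, cj_sq x2, (c.cm b1 b2).eq])).symm, by rw [c.pmul b1 b2, b3, ← mul_assoc, c.Z2 _ v1, one_mul], rfl⟩
  rw [sqpow] at k
  rcases zp_sq T.e2 k with k | k
  · obtain ⟨u, u1, u2⟩ := p.p3 _ d k
    exact c.reg mx.1 (one_mem _) u1 (by simp [u2])
  · obtain ⟨u, u1, u2⟩ := p.p3 _ (mul_mem (inv_mem m0) d) (by rw [c.pmul (inv_mem m0) d, ← mul_inv_rev, inv_pow, e0, k, inv_mul_cancel])
    exact c.reg mx.1 b1 u1 (by rw [u2, mul_inv_cancel_left])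

theorem wcl (l : g ⋆ W ≤ R) : g ⋆ W = W := by
  have lX : g ⋆ W ≤ R ⊓ X := le_inf l (cj_le.2 fun x k => a.cjX (c.WX a k) g)
  have lZ := (Transfer.conj_mono g c.ZW).trans lX
  have el := c.Z2.conj g
  have ab : g ⋆ W ≤ 𝐂(g ⋆ W) := Transfer.conj_centralizer g W ▸ Transfer.conj_mono g c.ab
  have k : g ⋆ Z ≤ W := fun x k => by_contra fun n => by
    obtain ⟨v, v1, rfl⟩ := ex_cj k
    obtain ⟨w, w1, rfl⟩ := p.p2 v v1
    obtain ⟨z, z1, z2, z3⟩ := c.z0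
    have y := (cj_mem_cj (g := g)).2 (pow_mem w1 m)
    rw [← sqpow, cj_mul] at k n
    have l' : g ⋆ Z ⊓ W ≤ Z := fun y j => c.om j.2 (el y j.1)
    have K := fun y' (j : y' ∈ g ⋆ Z) (o : y' ∉ W) => c.RCX a (lZ (mul_mem (inv_mem j) k)).1 (lZ (mul_mem (inv_mem j) k)).2
      (g8 c.Z2 c.c8 z1 z2 (c.RZ (l y)) (c.RZ (lZ j).1) (z3 (l y)) (z3 (lZ j).1) (mc.1 (ab y) _ (Transfer.conj_mono g c.ZW j))
        (el _ j ▸ one_mem _) (el _ k ▸ one_mem _) (c.nC a (lZ k) n) (c.nC a (lZ j) o))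
    have i : Ix W (g ⋆ Z) := fun u u1 v v1 u2 v2 => by
      simpa [el.inv u1, el.inv v1, mul_assoc] using mul_mem (K u u1 u2) (inv_mem (K v v1 v2))
    exact c.nC a (lZ k) n (plane c.Z2 l' (ix_of_card l' (Transfer.card_conj g Z ▸ i.card)) (c.RZ (l y))
      ((inf_le_left.trans (Transfer.conj_mono g c.ZW)).trans (ab.trans (cent_le_cent1 y))))
  have e : g ⋆ Z = Z := eq_of_le_of_card_le (fun x j => c.om (k j) (el x j)) (Transfer.card_conj g Z).ge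
  exact eq_of_le_of_card_le (fun x j => c.RCX a (lX j).1 (lX j).2 (e ▸ cent_anti (Transfer.conj_mono g c.ZW) (ab j))) (Transfer.card_conj g W).ge

theorem wcW : WC W := WC.of c.sR c.WR fun _ => c.wcl a p

variable (mi : i ∈ R ⊓ X) (i1 : i ∉ W) (i2 : i * i = 1)
include mi i1 i2

theorem f5 (mx : x ∈ R ⊓ X) (x1 : x ∉ W) (x2 : x * x ∈ W) (T : Tv Z x e) (d1 : d ∈ W) (d2 : d ∈ 𝐂[x]) (d3 : d * d ∈ Z) :
    d * d ∈ zpowers e := by_contra fun n => by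
  obtain ⟨g, -, w, w1, j⟩ := c.lift a mi i2 i1 mx x2 x1
  replace T := T.mulC (c.WC w1)
  have d4 : cj (x * w) d = d := by rw [cj_mul', cj_c (c.ab w1) d1, cj_c1' d2]
  obtain ⟨y, y1, y', y2, -, -, y3, y4, y5, y6, y7, -⟩ := c.fp a p (mul_mem mx ⟨c.WR w1, c.WX a w1⟩) (fun k => x1 ((mul_mem_cancel_right w1).1 k))
    (j ▸ cj_mul_self i2 g) T
  have key : ∀ y ∈ W, cj (x * w) y = y⁻¹ → y * y ≠ d * d := fun y y1 y3 k => by
    have v := c.om (mul_mem d1 (inv_mem y1)) (by rw [(c.cm d1 (inv_mem y1)).symm.mul_mul_mul_comm, ← mul_inv_rev, k, mul_inv_cancel])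
    have : cj (x * w) (d * y⁻¹) = d * y⁻¹ * (d * d) := by rw [cj_mul, d4, cj_inv, y3, ← k]; group
    by_cases o : d * d = 1
    exacts [n (o ▸ one_mem _), n (T.uq v this o ▸ mem_zpowers _)]
  rcases zp_sq T.e2 (T.four ⟨T.m, T.ec⟩ T.e1 _ y5 _ ⟨d3, mc1.2 (cj_eq_iff.1 (by rw [cj_mul, d4])).symm⟩ y6 n) with k | k
  · exact key y y1 y3 (eq_of_mul_eq_one' (c.Z2 _ d3) k)
  · exact key y' y2 y4 (by rw [y7, ← k, ← mul_assoc, c.Z2 _ y5.1, one_mul])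

theorem conf (iW : i ∈ g ⋆ W) : ∃ g u z j k, u ∈ W ∧ (u * u) ^ m = z ∧ j ∈ R ⊓ X ∧ k ∈ R ⊓ X ∧ j * j = 1 ∧ k * k = 1 ∧ Commute j k ∧
    Tv Z j z ∧ Tv Z k z ∧ Tv Z (j * k) z ∧ u ∈ g ⋆ W ∧ j ∈ g ⋆ W ∧ k ∈ g ⋆ W := by
  have wc := c.wcW a p
  obtain ⟨g, g1, g2⟩ := c4 wc c.W2 c.ab (c.RW mi.1) iW
  obtain ⟨s, -, l⟩ := c.sR.exists_conj_le (pgroup_sup ((pgroup_conj g).2 c.W2) (pgroup_of_le c.W2 ((mu_dl c.ab (c.RW mi.1)).pre_le (E := g ⋆ W)))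
    fun w k => g2 w ((Mu.mem_pre _).1 k).1 ((Mu.mem_pre _).1 k).2) le_top
  have sW : s ⋆ g ⋆ W = W := by
    rw [Transfer.conj_conj]; exact c.wcl a p (Transfer.conj_conj s g W ▸ (Transfer.conj_mono s le_sup_left).trans l)
  have H : ∀ w ∈ W, cj s (w⁻¹ * cj i w) ∈ W → cj s w ∈ R ⊓ X := fun w k n =>
    ⟨cj_le.1 l w (mem_sup_right ((Mu.mem_pre _).2 ⟨k, cj_mem_cj.1 (sW.ge n)⟩)), a.cjX (c.WX a k) s⟩
  have H1 : ∀ w ∈ W, w ∈ 𝐂[i] → cj s w ∈ R ⊓ X := fun w k n => H w k (by simp [cj_c1' n])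
  have iW : cj s i ∈ W := sW.le (cj_mem_cj.2 g1)
  have iZ := c.om iW (cj_mul_self i2 s)
  have i0 : i ≠ 1 := fun e => i1 (e ▸ one_mem _)
  obtain ⟨e, T⟩ := c.tv a mi i1 (i2 ▸ one_mem _)
  obtain ⟨y, y1, -, -, n, n1, y3, -, y5, y6, -, n2, n3, -⟩ := c.fp a p mi i1 i2 T
  have cc : ∀ {u w}, u ∈ W → w ∈ W → cj s u ∈ 𝐂[cj s w] := fun k k' => mc1.2 (Commute_cj s (c.cm k k'))
  have ci : ∀ {u}, u ∈ 𝐂[i] → cj s u ∈ 𝐂[cj s i] := fun k => mc1.2 (Commute_cj s (mc1.1 k))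
  have eW := c.ZW T.m
  have pW := c.ZW y5.1
  have p2 := c.Z2 _ y5.1
  have e0 : cj s e ≠ 1 := by simpa using T.e1
  have ni : ∀ {u}, u ∈ W → u ≠ 1 → cj s i ∉ zpowers (cj s u) ∧ cj s u ∉ zpowers (cj s i) := fun {u} k u1 =>
    ⟨fun j => i1 (cj_mem_cj.1 (zpowers_le.2 (cj_mem_cj.2 k) j)), nzp (cj_mul_self i2 s) (by simpa using u1) fun j => i1 (cj_inj.1 j ▸ k)⟩
  have s1 : cj s e ∈ W → cj s (y * y) ∉ W := fun k1 k2 => by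
    have yR := H y y1 (by rw [y3, ← mul_inv_rev, inv_of_sq p2]; exact k2)
    have l : s ⋆ (Z ⊓ 𝐂[i]) ≤ Z := cj_le.2 fun v j => c.om (by
      simpa using mem_cj.1 (T.le (K := s⁻¹ ⋆ W) ⟨T.m, T.ec⟩ T.e1 y5 y6 (mem_cj.2 (by simpa)) (mem_cj.2 (by simpa)) j)) (cj_mul_self (c.Z2 v j.1) s)
    have ni' : cj s i ∉ s ⋆ (Z ⊓ 𝐂[i]) := fun j => i1 (c.ZW (cj_mem_cj.1 j).1)
    have eZ : s ⋆ (Z ⊓ 𝐂[i]) ⊔ zpowers (cj s i) = Z := eq_of_le_of_card_le (sup_le l (zpowers_le.2 iZ)) (by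
      rw [card_sup_zp (cent_le_norm _ (cent_anti l (c.Z2.cent iZ))) (cj_mul_self i2 s ▸ one_mem _) ni', Transfer.card_conj, T.c4, c.c8])
    have nW := c.RCX a (H1 _ (pow_mem n1 m) (pow_mem n2 m)).1 (H1 _ (pow_mem n1 m) (pow_mem n2 m)).2 (eZ ▸ le_cent1_iff.1 (sup_le
      (cj_le.2 fun v j => cc (c.ZW j.1) (pow_mem n1 m)) (zpowers_le.2 (mem_cent1_symm (ci (pow_mem n2 m))))))
    have j : cj (cj s y) (cj s i) = cj s i * cj s (y * y) := by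
      rw [← cj_cj', ← cj_mul, show cj y i = i * (cj i y * y⁻¹) by simp [cj, ← mul_assoc, i2, inv_of_sq i2], y3,
        ← mul_inv_rev, inv_of_sq p2]
    have y0 : cj s (y * y) ≠ 1 := fun o => y6 (cj_eq_one.1 o ▸ one_mem _)
    have yW : cj s y ∉ W := fun o => y0 (mul_eq_left.1 (j.symm.trans (cj_c (c.WC o) iZ)))
    obtain ⟨b, T'⟩ := c.tv a yR yW (cj_mul s y y ▸ k2)
    have := c.f5 a p mi i1 i2 yR yW (cj_mul s y y ▸ k2) T' nW (cc (pow_mem n1 m) y1) (by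
      rw [← cj_mul, sqpow, n3]; exact c.om k1 (cj_mul_self T.e2 s))
    rw [← cj_mul, sqpow, n3, ← T'.uq iZ j y0] at this
    exact (zp_sq (cj_mul_self p2 s) this).elim e0 fun o => y6 (cj_inj.1 o ▸ mem_zpowers _)
  have pR := H1 _ pW y5.2
  have s2 : cj s e ∈ W := by_contra fun k1 => by
    have nR := H1 _ (pow_mem n1 m) (pow_mem n2 m)
    have q : cj s (n ^ m) * cj s (n ^ m) = cj s e := by rw [← cj_mul, sqpow, n3]
    have eR := H1 _ eW T.ec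
    have key : ∀ v ∈ Z, v ≠ 1 → cj s v ∉ W := fun v v1 v2 k => c.nC a eR k1 (q ▸ plane2 c.Z2 c.c8 iZ (c.om k (cj_mul_self (c.Z2 v v1) s))
      (by simpa using i0) (ni (c.ZW v1) v2).2 (c.RZ nR.1) (ci (pow_mem n2 m)) (cc (pow_mem n1 m) (c.ZW v1)))
    have := g8 c.Z2 c.c8 iZ (by simpa using i0) (c.RZ nR.1) (c.RZ pR.1) (ci (pow_mem n2 m)) (ci y5.2) (mc1.1 (cc (pow_mem n1 m) pW))
      (cj_mul_self p2 s ▸ one_mem _) (by rw [q, cj_mul_self T.e2]; exact one_mem _) (q ▸ c.nC a eR k1)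
      (c.nC a pR (key _ y5.1 fun o => y6 (o ▸ one_mem _)))
    rw [q] at this
    exact key _ (mul_mem (inv_mem y5.1) T.m) (fun o => y6 (inv_mul_eq_one.1 o ▸ mem_zpowers _)) (by
      rw [cj_mul, cj_inv]; exact c.RCX a (mul_mem (inv_mem pR.1) eR.1) (mul_mem (inv_mem pR.2) eR.2) this)
  have pn := s1 s2
  have eZ := c.om s2 (cj_mul_self T.e2 s)
  obtain ⟨v, v1, v2⟩ := T.ex
  have mv : ∀ v ∈ Z, v ∉ 𝐂[i] → cj s v ∈ R ⊓ X ∧ Tv Z (cj s v) (cj s e) := fun v v1 v2 => by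
    have vR := H v (c.ZW v1) (by rw [T.mv v1 v2, inv_mul_cancel_left]; exact s2)
    have j : cj (cj s v) (cj s i) = cj s i * cj s e := by
      rw [← cj_cj', ← cj_mul, show cj v i = i * (cj i v * v⁻¹) by simp [cj, ← mul_assoc, i2, inv_of_sq i2], T.mv v1 v2,
        (c.Z2.comm v1 T.m).eq, mul_inv_cancel_right]
    obtain ⟨b, T'⟩ := c.tv a vR (fun o => e0 (mul_eq_left.1 (j.symm.trans (cj_c (c.WC o) iZ)))) (cj_mul_self (c.Z2 v v1) s ▸ one_mem _)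
    exact ⟨vR, T'.uq iZ j e0 ▸ T'⟩
  obtain ⟨vR, Tk⟩ := mv v v1 v2
  have ax : ∀ w ∈ W, w ∈ 𝐂[i] → cj s w ∉ W → Tv Z (cj s w) (cj s e) := fun w w1 w2 w3 => by
    have wR := H1 w w1 w2
    obtain ⟨b, T'⟩ := ex_tv c.Z2 c.c8 (c.RZ wR.1) (plane2 c.Z2 c.c8 eZ iZ e0 (ni eW T.e1).1 (c.RZ wR.1) (cc w1 eW) (ci w2)) (c.nC a wR w3)
    have f := T'.fix (c.RZ vR.1) (mc1.1 (cc (c.ZW v1) w1))
    have b1 : b ∈ zpowers (cj s e) := by_contra fun o => v2 (mc1.2 (commute_cj.1 (mc1.1 (T'.le (K := 𝐂[cj s v]) ⟨eZ, cc eW w1⟩ e0 ⟨T'.m, T'.ec⟩ o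
      Tk.ec (mem_cent1_symm f) ⟨iZ, mem_cent1_symm (ci w2)⟩)).symm))
    exact (zp_sq Tk.e2 b1).resolve_left T'.e1 ▸ T'
  have Tj := ax _ pW y5.2 pn
  obtain ⟨u, u1, u2, u3⟩ : ∃ u ∈ W, cj s u ∈ W ∧ (u * u) ^ m = e := by
    by_cases o : cj s n ∈ W
    · exact ⟨n, n1, o, n3⟩
    have nR := H1 _ n1 n2
    refine ⟨_, mul_mem (inv_mem pW) n1, ?_, by rw [c.pmul (inv_mem pW) n1, n3, ← mul_inv_rev, p2]; simp⟩
    rw [cj_mul, cj_inv]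
    exact c.RCX a (mul_mem (inv_mem pR.1) nR.1) (mul_mem (inv_mem pR.2) nR.2) (Tj.eq (ax n n1 n2 o)
      (Tj.le ⟨eZ, Tj.ec⟩ e0 ⟨iZ, mem_cent1_symm (ci y5.2)⟩ (ni eW T.e1).1 (cc eW n1) (mem_cent1_symm (ci n2))))
  exact ⟨s, _, _, _, _, u2, by rw [← cj_mul, ← cj_pow, u3], pR, vR, cj_mul_self p2 s, cj_mul_self (c.Z2 v v1) s, mc1.1 (cc pW (c.ZW v1)),
    Tj, Tk, cj_mul s _ v ▸ (mv _ (mul_mem y5.1 v1) fun o => v2 ((mul_mem_cancel_left (H := 𝐂[i]) y5.2).1 o)).2, cj_mem_cj.2 u1, cj_mem_cj.2 pW,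
    cj_mem_cj.2 (c.ZW v1)⟩

theorem m1 (u1 : u ∈ W) (uz : (u * u) ^ m = z) (H : ∀ x, x = j ∨ x = k ∨ x = j * k → x ∈ R ⊓ X ∧ x * x = 1 ∧ Tv Z x z ∧ u ∈ 𝐂[x]) : m = 1 := by
  refine p.m2.resolve_right fun ⟨n, e⟩ => ?_
  obtain ⟨mj, j2, T, uj⟩ := H j (.inl rfl)
  have q : ∀ w : G, w ^ n * w ^ n * (w ^ n * w ^ n) = (w * w) ^ m := fun w => by rw [sqpow, ← pow_add, e, _root_.two_mul]
  obtain ⟨v, v1, v2⟩ := T.ex
  obtain ⟨w, w1, rfl⟩ := p.p2 v v1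
  replace w1 := pow_mem w1 n
  replace u1 := pow_mem u1 n
  rw [← q] at uz v1 v2
  replace H := fun x e => (H x e).imp_right (And.imp_right (And.imp_right fun k => pow_mem k n))
  replace uj := pow_mem uj n
  generalize w ^ n = w at *
  generalize u ^ n = u at *
  have zU : z ∈ zpowers (u * u) := uz ▸ mul_mem (mem_zpowers _) (mem_zpowers _)
  have key : ∀ x, x = j ∨ x = k ∨ x = j * k → w * cj x w * (w * cj x w) ∈ zpowers (u * u) := fun x e => by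
    obtain ⟨mx, x2, T, ux⟩ := H x e
    have w2 := cjm (c.RW mx.1) w1
    have d1 := mul_mem w1 w2
    have d2 : w * cj x w ∈ 𝐂[x] := mc1.2 (cj_eq_iff.1 (by rw [cj_mul, cj_sq x2, (c.cm w1 w2).eq])).symm
    have f := fun d d1 d2 d3 => zpowers_le.2 zU (c.f5 a p mi i1 i2 mx (fun k => T.nc (c.WC k)) (x2 ▸ one_mem _) T (d := d) d1 d2
      (c.om (mul_mem d1 d1) d3))
    have e : w * cj x w * (w * cj x w) * (w * cj x w * (w * cj x w)) = w * w * (w * w) * cj x (w * w * (w * w)) := by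
      rw [(c.cm w1 w2).symm.mul_mul_mul_comm, (c.cm (mul_mem w1 w1) (mul_mem w2 w2)).symm.mul_mul_mul_comm]; simp only [cj_mul]
    rcases T.or _ v1 with k | k <;> rw [k] at e
    · exact f _ d1 d2 (e.trans (c.Z2 _ v1))
    have := f _ (mul_mem d1 u1) (mul_mem d2 ux) (by
      rw [(c.cm d1 u1).symm.mul_mul_mul_comm, (c.cm (mul_mem d1 d1) (mul_mem u1 u1)).symm.mul_mul_mul_comm, e, uz, ← mul_assoc _ _ z, c.Z2 _ v1,
        one_mul, T.e2])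
    rw [(c.cm d1 u1).symm.mul_mul_mul_comm] at this
    exact (mul_mem_cancel_right (mem_zpowers _)).1 this
  have k1 := key j (.inl rfl)
  have k2 := key k (.inr (.inl rfl))
  have k3 := key _ (.inr (.inr rfl))
  rw [← cj_c1' (zpowers_le.2 (mul_mem uj uj) k2), cj_mul, cj_mul, cj_cj] at k2
  have m2 := cjm (c.RW mj.1) w1
  have m3 := cjm (c.RW (H _ (.inr (.inr rfl))).1.1) w1
  have := mul_mem (mul_mem k3 k1) (inv_mem k2)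
  generalize cj j w = b at *
  generalize cj (j * k) w = d at *
  rw [show w * d * (w * d) * (w * b * (w * b)) * (b * d * (b * d))⁻¹ = w * w * (w * w) by
    rw [mul_inv_eq_iff_eq_mul]
    let _ : CommGroup W := { mul_comm := fun x y => Subtype.ext (c.cm x.2 y.2) }
    exact congrArg Subtype.val (by ac_rfl : (⟨w, w1⟩ * ⟨d, m3⟩ * (⟨w, w1⟩ * ⟨d, m3⟩) * (⟨w, w1⟩ * ⟨b, m2⟩ * (⟨w, w1⟩ * ⟨b, m2⟩)) : W) =
      ⟨w, w1⟩ * ⟨w, w1⟩ * (⟨w, w1⟩ * ⟨w, w1⟩) * (⟨b, m2⟩ * ⟨d, m3⟩ * (⟨b, m2⟩ * ⟨d, m3⟩)))] at this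
  exact v2 (zp_uniq zU this T.e2 (c.Z2 _ v1) T.e1 (fun e => v2 (e ▸ one_mem _)) ▸ T.ec)

end Y3

structure Bg (t h : G) (Z W R X : Subgroup G) (u : G) (J : Subgroup G) : Prop extends Y3 t h Z W R where
  a : Am t h X
  p : Pw W Z 1
  exi : ∃ i ∈ R ⊓ X, i ∉ W ∧ i * i = 1
  u1 : u ∈ W
  HJ : ∀ y ∈ J, y ≠ 1 → y ∈ R ⊓ X ∧ y * y = 1 ∧ Tv Z y (u * u) ∧ u ∈ 𝐂[y]
  cJ : Nat.card J = 4
  c64 : Nat.card W = 64
  cE : Nat.card (zpowers u) = 4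
  cD : Nat.card ↥(Z ⊔ zpowers u) = 16
  cA : Nat.card ↥(Z ⊔ zpowers u ⊔ J) = 64
  AW : ∀ x ∈ Z ⊔ zpowers u ⊔ J, x ∈ W → x ∈ Z ⊔ zpowers u
  AB : (Z ⊔ zpowers u ⊔ J) ⊓ t ⋆ (Z ⊔ zpowers u ⊔ J) = Z ⊔ zpowers u
  BQ : t ⋆ (Z ⊔ zpowers u ⊔ J) ≤ W ⊔ J
  pr : ∀ s ∈ W ⊔ J, ∃ a ∈ Z ⊔ zpowers u ⊔ J, ∃ b ∈ t ⋆ (Z ⊔ zpowers u ⊔ J), a * b = s
  sA : ∀ x ∈ Z ⊔ zpowers u ⊔ J, x * x ∈ zpowers u
  RE : R ≤ 𝐍(zpowers u)
  eE : W ⊓ 𝐂(W ⊔ J) = zpowers u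
  sQ : Syl 2 (W ⊔ J) (𝐂(zpowers u) ⊓ X)
  fus : ∃ j ∈ J, j ≠ 1 ∧ ∃ s ∈ 𝐂(zpowers u) ⊓ X, cj s j ∈ Z ⊔ zpowers u
  iv : ∀ x ∈ W ⊔ J, x * x ∈ zpowers u → x ∈ Z ⊔ zpowers u ⊔ J ∨ x ∈ t ⋆ (Z ⊔ zpowers u ⊔ J)

theorem Y3.big (c : Y3 t h Z W R) (a : Am t h X) (mi : i ∈ R ⊓ X) (i1 : i ∉ W) (i2 : i * i = 1) (n : W ≠ Z) (iW : i ∈ g ⋆ W) :
    ∃ u J, Bg t h Z W R X u J := by
  obtain ⟨m, p⟩ := c.pw n
  obtain ⟨g, u, z, j, k, u1, uz, mj, mk, j2, k2, jk, Tj, Tk, Tjk, ug, jg, kg⟩ := c.conf a p mi i1 i2 iW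
  have ab' : g ⋆ W ≤ 𝐂(g ⋆ W) := Transfer.conj_centralizer g W ▸ Transfer.conj_mono g c.ab
  have H : ∀ x, x = j ∨ x = k ∨ x = j * k → x ∈ R ⊓ X ∧ x * x = 1 ∧ Tv Z x z ∧ u ∈ 𝐂[x] := by
    rintro _ (rfl | rfl | rfl)
    exacts [⟨mj, j2, Tj, mc1.2 (mc.1 (ab' ug) _ jg)⟩, ⟨mk, k2, Tk, mc1.2 (mc.1 (ab' ug) _ kg)⟩, ⟨mul_mem mj mk, by
      rw [jk.symm.mul_mul_mul_comm, j2, k2, mul_one], Tjk, mc1.2 (mc.1 (ab' ug) _ (mul_mem jg kg))⟩]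
  obtain rfl := c.m1 a p mi i1 i2 u1 uz H
  have p1 : ∀ w ∈ W, w * w ∈ Z := by simpa using p.p1
  rw [pow_one] at uz
  have z2 := Tj.e2
  have n1 : ∀ {x}, Tv Z x z → x ≠ 1 := fun T e => T.nc (e ▸ one_mem _)
  have kj : k ∉ zpowers j := nzp j2 (n1 Tk) fun e => n1 Tjk (e ▸ j2)
  have cJ : Nat.card ↥(zpowers j ⊔ zpowers k) = 4 := by rw [card_sup_zp (nm_zp jk.symm) (k2 ▸ one_mem _) kj, card_zp2 j2 (n1 Tj)]
  have HJ : ∀ y ∈ zpowers j ⊔ zpowers k, y ≠ 1 → y ∈ R ⊓ X ∧ y * y = 1 ∧ Tv Z y z ∧ u ∈ 𝐂[y] := fun y m y1 => H y (by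
    rcases (mem_sup_zp (nm_zp jk.symm) (k2 ▸ one_mem _)).1 m with e | e <;> rcases zp_sq j2 e with e | e
    exacts [absurd e y1, .inl e, .inr (.inl (mul_inv_eq_one.1 e)), .inr (.inr (mul_inv_eq_iff_eq_mul.1 e))])
  have jJ : j ∈ zpowers j ⊔ zpowers k := mem_sup_left (mem_zpowers j)
  have Cz : Z ⊓ 𝐂(zpowers j ⊔ zpowers k) ≤ zpowers z := fun v m => by_contra fun n => Tjk.nc (by
    have := Tj.eq Tk (Tj.le ⟨Tj.m, Tj.ec⟩ Tj.e1 ⟨m.1, mem_cent1_symm (cent_le_cent1 jJ m.2 |> mem_cent1_symm)⟩ n Tk.ec (cent_le_cent1 zp_mem_sup m.2))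
    rwa [inv_of_sq j2] at this)
  have eJ := (el_zp j2).sup (el_zp k2) (by rw [cent_zpowers]; exact zpowers_le.2 (mc1.2 jk.symm))
  have JS : zpowers j ⊔ zpowers k ≤ R ⊓ X := sup_le (zpowers_le.2 mj) (zpowers_le.2 mk)
  clear H kj kg mk k2 jk Tk Tjk
  generalize zpowers j ⊔ zpowers k = J at *
  have JW : ∀ y ∈ J, y ∈ W → y = 1 := fun y m k => by_contra fun n => (HJ y m n).2.2.1.nc (c.WC k)
  have Ju : J ≤ 𝐂[u] := fun y m => (em (y = 1)).elim (· ▸ one_mem _) fun n => mem_cent1_symm (HJ y m n).2.2.2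
  have JN : J ≤ 𝐍(W) := fun y m => c.RW (JS m).1
  have zE : zpowers z ≤ zpowers u := zpowers_le.2 (uz ▸ mul_mem (mem_zpowers u) (mem_zpowers u))
  have uZ : u ∉ Z := fun m => Tj.e1 (uz ▸ c.Z2 u m)
  have EW := zpowers_le.2 u1
  have uN : u ∈ 𝐍(Z) := cent_le_norm _ (c.WC u1)
  have DW : Z ⊔ zpowers u ≤ W := sup_le c.ZW EW
  have cD : Nat.card ↥(Z ⊔ zpowers u) = 16 := by rw [card_sup_zp uN (p1 u u1) uZ, c.c8]
  have cE : Nat.card (zpowers u) = 4 := by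
    rw [← sup_eq_right.2 zE, card_sup_zp (nm_zp (c.cm u1 (c.ZW Tj.m))) (uz ▸ mem_zpowers z) fun m => uZ (zpowers_le.2 Tj.m m), card_zp2 z2 Tj.e1]
  have cW : Nat.card W = 64 := by
    rw [(mu_sq c.ab).card (K := Z) fun w => ⟨fun m => ⟨c.ZW m, c.Z2 w m⟩, fun m => c.om m.1 m.2⟩, show (mu_sq c.ab).img = Z from
      le_antisymm (fun x m => by obtain ⟨w, k, rfl⟩ := (Mu.mem_img _).1 m; exact p1 w k) fun v m => (Mu.mem_img _).2 (by simpa using p.p2 v m), c.c8]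
  have sq : ∀ {v w}, v ∈ W → w ∈ W → v * w * (v * w) = v * v * (w * w) := fun k k' => (c.cm k k').symm.mul_mul_mul_comm _ _
  have mD : ∀ {w}, w ∈ W → (w ∈ Z ⊔ zpowers u ↔ w * w ∈ zpowers z) := fun {w} k => by
    rw [mem_sup_zp uN (p1 u u1)]
    have e := sq k (inv_mem u1)
    rw [← mul_inv_rev, uz] at e
    refine ⟨fun m => m.elim (fun m => c.Z2 w m ▸ one_mem _) fun m => ?_, fun m => (zp_sq z2 m).imp (c.om k) fun m =>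
      c.om (mul_mem k (inv_mem u1)) (by rw [e, m, mul_inv_cancel])⟩
    rw [c.Z2 _ m, eq_comm, mul_inv_eq_one] at e; exact e ▸ mem_zpowers z
  have EZ : ∀ x ∈ zpowers u, x ∈ Z → x ∈ zpowers z := fun x m k => by_contra fun n => n (zp_uniq (zE (mem_zpowers z)) m z2 (c.Z2 x k) Tj.e1
    (fun e => n (e ▸ one_mem _)) ▸ mem_zpowers z)
  have cz : ∀ y ∈ J, ∀ v ∈ Z, v⁻¹ * cj y v ∈ zpowers z := fun y m v k => by
    by_cases e : y = 1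
    · simp [e]
    · rcases (HJ y m e).2.2.1.or v k with e | e <;> simp [e]
  have dW : ∀ {y w}, y ∈ J → w ∈ W → w⁻¹ * cj y w ∈ W := fun m k => mul_mem (inv_mem k) (cjm (JN m) k)
  have dD : ∀ {y w}, y ∈ J → w ∈ W → w⁻¹ * cj y w ∈ Z ⊔ zpowers u := fun {y w} m k => (mD (dW m k)).2 (by
    rw [sq (inv_mem k) (cjm (JN m) k), ← mul_inv_rev, ← cj_mul]; exact cz y m _ (p1 w k))
  have dz : ∀ {y w}, y ∈ J → w ∈ Z ⊔ zpowers u → w⁻¹ * cj y w ∈ zpowers z := fun {y w} m k => by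
    obtain ⟨v, v1, x, x1, rfl⟩ := (mem_sup_left_norm (zpowers_le.2 uN)).1 k
    rw [cj_mul, cj_c1' (zpowers_le.2 (mem_cent1_symm (Ju m)) x1), mul_inv_rev, mul_assoc, ← mul_assoc v⁻¹, ← mul_assoc,
      (c.cm (inv_mem (EW x1)) (dW m (c.ZW v1))).eq, inv_mul_cancel_right]
    exact cz y m v v1
  have fD : ∀ {y w}, y ∈ J → y ≠ 1 → w ∈ W → w ∈ 𝐂[y] → w ∈ Z ⊔ zpowers u := fun {y w} m y1 k k' =>
    let ⟨b1, b2, b3, _⟩ := HJ y m y1; (mD k).2 (c.f5 a p mi i1 i2 b1 (fun e => y1 (JW y m e)) (b2 ▸ one_mem _) b3 k k' (p1 w k))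
  have δW : ∀ {y}, y ∈ J → cj y t * t ∈ W := fun m => c.dl (c.RN (JS m).1)
  have δ' : ∀ {y e}, y ∈ R ⊓ X → y ∉ W → y * y = 1 → Tv Z y e → cj y t * t * (cj y t * t) ∉ zpowers e := fun b1 b2 b3 b4 => by
    obtain ⟨_, -, _, -, _, -, -, -, -, k, -, -, -, rfl⟩ := c.fp a p b1 b2 b3 b4
    rwa [pow_one] at k
  have δD : ∀ {y}, y ∈ J → cj y t * t ∈ Z ⊔ zpowers u → y = 1 := fun {y} m k => by_contra fun y1 =>
    let ⟨b1, b2, b3, _⟩ := HJ y m y1; δ' b1 (fun e => y1 (JW y m e)) b2 b3 ((mD (δW m)).1 k)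
  have ct : ∀ {y}, y ∈ J → cj t y = y * (cj y t * t) := fun {y} m => by
    simp [cj, inv_of_sq (eJ y m), inv_of_sq c.t2, ← mul_assoc, eJ y m]
  have tE : t ∈ 𝐍(zpowers u) := nm_of fun x m => c.inv (EW m) ▸ inv_mem m
  have tD := nm_sup c.tN tE
  have JD : J ≤ 𝐍(Z ⊔ zpowers u) := fun y m => nm_sup (c.RZ (JS m).1) (nm_zp (mc1.1 (Ju m)))
  set D := Z ⊔ zpowers u
  have cs : ∀ {K}, K ≤ W → J ≤ 𝐍(K) → Nat.card ↥(K ⊔ J) = Nat.card K * 4 := fun {K} l n => by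
    rw [← cJ, ← PGroup.card_sup_mul_card_inf n, (eq_bot_iff_forall (K ⊓ J)).2 fun x m => JW x m.2 (l m.1), card_bot, mul_one]
  have AW : ∀ x ∈ D ⊔ J, x ∈ W → x ∈ D := fun x m k => by
    obtain ⟨d, d1, y, y1, rfl⟩ := (mem_sup_left_norm JD).1 m
    rwa [JW y y1 ((mul_mem_cancel_left (DW d1)).1 k), mul_one]
  have DB : D ≤ t ⋆ (D ⊔ J) := fun x m => mem_cj.2 (mem_sup_left (cjm (inv_mem tD) m))
  have AB : (D ⊔ J) ⊓ t ⋆ (D ⊔ J) = D := le_antisymm (fun x m => by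
    obtain ⟨d, d1, y, y1, rfl⟩ := (mem_sup_left_norm JD).1 m.1
    have := mem_cj.1 m.2
    rw [inv_of_sq c.t2, cj_mul, ct y1, mul_mem_cancel_left (mem_sup_left (cjm tD d1)), mul_mem_cancel_left (mem_sup_right y1)] at this
    rwa [δD y1 (AW _ this (δW y1)), mul_one]) (le_inf le_sup_left DB)
  have QS : W ⊔ J ≤ R ⊓ X := sup_le (le_inf c.WR (c.WX a)) JS
  have tQ : t ∈ 𝐍(W ⊔ J) := nm_of (cj_le.1 (by
    rw [Transfer.conj_sup, conj_eq_of_norm c.tW]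
    exact sup_le le_sup_left (cj_le.2 fun y m => ct m ▸ mul_mem (mem_sup_right m) (mem_sup_left (δW m)))))
  have AQ : D ⊔ J ≤ W ⊔ J := sup_le_sup_right DW _
  have BQ : t ⋆ (D ⊔ J) ≤ W ⊔ J := conj_le_of_norm AQ tQ
  have QA : W ⊔ J ≤ 𝐍(D ⊔ J) := sup_le (fun w k => nm_of (cj_le.1 (by
    rw [Transfer.conj_sup, conj_eq_of_cent (cent_anti DW (c.ab k))]
    refine sup_le le_sup_left (cj_le.2 fun y m => ?_)
    simpa [cj, mul_assoc] using mul_mem (mem_sup_left (T := J) (dD m (inv_mem k))) (mem_sup_right m)))) (le_norm_of_le le_sup_right)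
  have pr : ∀ s ∈ W ⊔ J, ∃ a ∈ D ⊔ J, ∃ b ∈ t ⋆ (D ⊔ J), a * b = s := fun s m => (mem_sup_left_norm (BQ.trans QA)).1 ((eq_of_le_of_card_le
    (sup_le AQ BQ) (by
      have := PGroup.card_sup_mul_card_inf (BQ.trans QA)
      rw [AB, Transfer.card_conj, cs DW JD, cD] at this
      rw [cs le_rfl JN, cW]; omega)).ge m)
  have sqy : ∀ {y} w, y ∈ J → w * y * (w * y) = w * w * (w⁻¹ * cj y w) := fun {y} w m => by simp [cj, mul_assoc, inv_of_sq (eJ y m)]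
  have sA : ∀ x ∈ D ⊔ J, x * x ∈ zpowers u := fun x m => by
    obtain ⟨d, d1, y, y1, rfl⟩ := (mem_sup_left_norm JD).1 m
    exact sqy d y1 ▸ zE (mul_mem ((mD (DW d1)).1 d1) (dz y1 d1))
  have iS := ix_of_card QS (by rw [c.cS a, cs le_rfl JN]; omega)
  have dec : ∀ {K}, R ⊓ X ≤ K → t ∈ K → R ≤ K := fun l m x k => (a.mem c.toH0 x).elim (fun e => l ⟨k, e⟩) fun e =>
    (mul_mem_cancel_right m).1 (l ⟨mul_mem k c.tR, e⟩)
  have RQ : R ≤ 𝐍(W ⊔ J) := dec (nm_of_sq (fun x m => iS.sq m) le_rfl QS) tQ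
  have QE : W ⊔ J ≤ 𝐂(zpowers u) := by rw [cent_zpowers]; exact sup_le (c.ab.trans (cent_le_cent1 u1)) Ju
  have eE : W ⊓ 𝐂(W ⊔ J) = zpowers u := le_antisymm (fun w m => by
    have m' := cent_anti le_sup_right m.2
    obtain ⟨v, v1, x, x1, rfl⟩ := (mem_sup_left_norm (zpowers_le.2 uN)).1 (fD jJ (n1 Tj) m.1 (cent_le_cent1 jJ m'))
    exact mul_mem (zE (Cz ⟨v1, (mul_mem_cancel_right (cent_anti le_sup_right (cent_symm QE x1))).1 m'⟩)) x1) (le_inf EW (cent_symm QE))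
  have RE : R ≤ 𝐍(zpowers u) := fun x m => eE ▸ nm_inf (c.RW m) (nm_cent (RQ m))
  have nY : Nml (𝐂(zpowers u) ⊓ X) 𝐍(zpowers u) := ⟨inf_le_left.trans (cent_le_norm _), fun x m => nm_inf (nm_cent m) (a.nX x)⟩
  have sQ : Syl 2 (W ⊔ J) (𝐂(zpowers u) ⊓ X) := by
    obtain ⟨r, m, e⟩ : ∃ r ∈ R ⊓ X, cj r t = u * t := by
      obtain ⟨r, m, e⟩ := c.trR u u1
      exact (a.mem c.toH0 r).elim (fun k => ⟨r, ⟨m, k⟩, e⟩) fun k => ⟨_, ⟨mul_mem m c.tR, k⟩, by rw [cj_mul', cj_self]; exact e⟩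
    have r1 : r ∉ 𝐂(zpowers u) := fun k => by
      have ru := cj_c k (mem_zpowers u)
      have δw : ∀ w ∈ W, cj w t * t = w * w := fun w m => by simpa [mul_assoc, c.t2] using congrArg (· * t) (c.cjt m (one_mem W))
      have rW : r ∉ W := fun k => uZ (by simpa [← δw r k, e, mul_assoc, c.t2] using p1 r k)
      obtain ⟨n, -, w, w1, j⟩ := c.lift a mi i2 i1 m (c.PX a (c.reg (mul_mem m.1 m.1) (one_mem _) u1 (by
        simp [cj_mul', e, cj_mul, ru, mul_assoc, c.t2])) (mul_mem m.2 m.2)) rW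
      have m' := mul_mem m (QS (mem_sup_left w1))
      have n' := mt (mul_mem_cancel_right w1).1 rW
      have s2 := j ▸ cj_mul_self i2 n
      obtain ⟨b, T⟩ := c.tv a m' n' (s2 ▸ one_mem _)
      have := c.f5 a p mi i1 i2 m' n' (s2 ▸ one_mem _) T u1 (mem_cent1_symm (mul_mem (cent_le_cent1 (mem_zpowers u) k) (mc1.2 (c.cm w1 u1))))
        (p1 u u1)
      have v := cjm (c.RZ m.1) (p1 w w1)
      exact δ' m' n' s2 T (by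
        rwa [cj_mul', eq_mul_inv_of_mul_eq (δw w w1), cj_mul r (w * w), inv_of_sq c.t2, e, mul_assoc (cj r _) (u * t) t, mul_assoc u, c.t2, mul_one, sq (c.ZW v) u1,
          c.Z2 _ v, one_mul])
    have := Hall.inf_nml (Hall.of_le c.sR RE le_top) nY
    rwa [show R ⊓ (𝐂(zpowers u) ⊓ X) = W ⊔ J from le_antisymm (fun x k => by_contra fun n => r1 ((mul_mem_cancel_left k.2.1).1
      (QE (iS x ⟨k.1, k.2.2⟩ r m n fun e => r1 (QE e))))) (le_inf (QS.trans inf_le_left) (le_inf QE (QS.trans inf_le_right)))] at this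
  obtain ⟨s, s1, l⟩ := sQ.exists_conj_le ((pgroup_conj g).2 c.W2) (le_inf (ab'.trans (cent_anti (zpowers_le.2 ug)))
    (cj_le.2 fun x k => a.cjX (c.WX a k) g))
  have sj : cj s j ∈ D := mem_sup_left (c.om ((c.wcl a p (Transfer.conj_conj s g W ▸ l.trans (QS.trans inf_le_left))).le
    (Transfer.conj_conj s g W ▸ cj_mem_cj.2 jg)) (cj_mul_self j2 s))
  refine ⟨u, J, c, a, p, ⟨i, mi, i1, i2⟩, u1, uz ▸ HJ, cJ, cW, cE, cD, by rw [cs DW JD, cD], AW, AB, BQ, pr, sA, RE, eE, sQ,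
    ⟨j, jJ, n1 Tj, s, s1, sj⟩, fun x m x2 => ?_⟩
  obtain ⟨b, b1, _, b2, rfl⟩ := pr x m
  obtain ⟨b', b3, rfl⟩ := ex_cj b2
  obtain ⟨d, d1, y, y1, rfl⟩ := (mem_sup_left_norm JD).1 b1
  obtain ⟨d', d2, y', y2, rfl⟩ := (mem_sup_left_norm JD).1 b3
  by_cases e : y = 1
  · exact .inr (mul_mem (DB (by simpa [e] using d1)) b2)
  by_cases e' : y' = 1
  · exact .inl (mul_mem b1 (mem_sup_left (by simpa [e'] using cjm tD d2)))
  have i : cj y' (cj y' t * t) = (cj y' t * t)⁻¹ := by rw [cj_mul, cj_sq (eJ _ y2), mul_inv_rev, inv_of_sq c.t2, ← cj_inv, inv_of_sq c.t2]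
  have n := mt (δD y2) e'
  have w1 := δW y2
  rw [cj_mul, ct y2] at x2
  generalize cj y' t * t = w at *
  have d3 := mul_mem d1 (cjm (JD y1) (cjm tD d2))
  have w2 : cj y w ∈ W := cjm (JN y1) w1
  have yy := mul_mem y1 y2
  have sq' : ∀ w, w * (y * y') * (w * (y * y')) = w * cj (y * y') w := fun w => by rw [cj, inv_of_sq (eJ _ yy)]; group
  have d4 := sA _ (mul_mem (mem_sup_left d3) (mem_sup_right yy))
  rw [show d * y * (cj t d' * (y' * w)) = d * cj y (cj t d') * (cj y w)⁻¹ * (y * y') by rw [← cj_inv, ← i]; simp [cj, mul_assoc], sq',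
    cj_mul (y * y'), (c.cm (inv_mem w2) (cjm (JN yy) (DW d3))).mul_mul_mul_comm, mul_mem_cancel_left (sq' _ ▸ d4), cj_inv, cj_cj,
    (eJ.comm y1 y2).eq, mul_assoc y', eJ y y1, mul_one, i, inv_inv] at x2
  replace x2 : w⁻¹ * cj y w ∈ zpowers u := by simpa using inv_mem x2
  have k := dl_inv c.ab (JN y1) (eJ y y1 ▸ one_mem _) w1
  rw [cj_c1' (zpowers_le.2 (mem_cent1_symm (Ju y1)) x2)] at k
  obtain ⟨-, -, T, -⟩ := HJ y y1 e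
  obtain ⟨v, v1, v2⟩ := T.ex
  refine (n ?_).elim
  rcases zp_sq z2 (EZ _ x2 (c.om (EW x2) (mul_eq_one_iff_eq_inv.2 k))) with k | k
  · exact fD y1 e w1 ((dl_ker w).2 ⟨w1, k⟩).2
  · exact (mul_mem_cancel_right (mem_sup_left v1)).1 (fD y1 e (mul_mem w1 (c.ZW v1)) (mc1.2 (cj_eq_iff.1 (by
      rw [cj_mul, T.mv v1 v2, eq_mul_of_inv_mul_eq k.symm.symm, mul_assoc, ← mul_assoc z, (c.Z2.comm T.m v1).eq, mul_assoc v, z2, mul_one])).symm))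

end Cfsg.Lib.J1S
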